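import Cfsg.Agent.H7.Wf.UFrame
import Cfsg.Agent.H7.Wf.UOne

/-!
# S3826: the row `PSU_3(q)`, `3 ∤ q`, `q ≥ 4` (helper7)
-/

set_option autoImplicit false

namespace Cfsg.Agent.H7.Wf

open Cfsg Cfsg.Agent.H533.Wf

/-- **`PSU_3(q)`, `q ≥ 4`, `3 ∤ q`.** -/
theorem arow_psu3 {F : Type*} [Field F] [Fintype F] {q : ℕ} (hF : Fintype.card F = q ^ 2) (hq : 4 ≤ q)
    (h3 : ¬ 3 ∣ q) : ARow 3 (PSU 3 F q) := by
  by_cases h : q % 3 = 1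
  · exact UOne.arow_one hF le_rfl h
  · exact UFrame.arow_two hF (by omega) (by omega)

end Cfsg.Agent.H7.Wf
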