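import Cfsg.Agent.CpAutU.Fixed
import Cfsg.Agent.S0277

/-!
# S3826, `PSU_3`: the frames (helper7)

`Mon` : the monomial subgroup of `GU 3 F q`; `Aut (PSU 3 F q)` acts on the cosets `GU 3 F q ⧸ Mon` (the orthonormal frames);
transitivity, the number of frames, the number of fixed frames in terms of matrices.
-/

set_option autoImplicit false

namespace Cfsg.Agent.H7.Wf.UAct

open Matrix Cfsg Cfsg.Agent.LieClassical.HermBasic Cfsg.Agent.LieClassical.HermSiegel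
open Cfsg.Agent.LieClassical.SUBasic
open Cfsg.Agent.ClassicalGeometry.PSUAutCount
open Cfsg.Agent.ClassicalGeometry.UnitAutBasic (pr pr_surjective)
open Cfsg.Agent.Schreier.PSU (mapGU gm_mapGU f₁ f₁_eq_conj)
open Cfsg.Agent.CpAutU.Desc (toAut_mul toAut_one gm_mapGU' mapGU_one)

section Mon

variable {F : Type*} [Field F] {q : ℕ}

theorem gm_single_ne (g : GU 3 F q) (j : Fin 3) : gm g *ᵥ (Pi.single j 1 : Fin 3 → F) ≠ 0 := by
  intro h
  have h1 := congrArg (fun v => gm g⁻¹ *ᵥ v) h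
  simp only [gm_inv_mulVec, mulVec_zero] at h1
  have h2 := congrFun h1 j
  rw [Pi.single_eq_same, Pi.zero_apply] at h2
  exact one_ne_zero h2

/-- The monomial subgroup. -/
def Mon (F : Type*) [Field F] (q : ℕ) : Subgroup (GU 3 F q) where
  carrier := {g | ∃ π : Equiv.Perm (Fin 3), ∀ j, ∃ c : F,
    gm g *ᵥ (Pi.single j 1 : Fin 3 → F) = c • (Pi.single (π j) 1 : Fin 3 → F)}
  one_mem' := ⟨1, fun j => ⟨1, by rw [gm_one, one_mulVec, one_smul]; rfl⟩⟩
  mul_mem' := by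
    rintro a b ⟨π, ha⟩ ⟨σ, hb⟩
    refine ⟨π * σ, fun j => ?_⟩
    obtain ⟨c, hc⟩ := hb j
    obtain ⟨d, hd⟩ := ha (σ j)
    exact ⟨c * d, by rw [gm_mul, ← mulVec_mulVec, hc, mulVec_smul, hd, smul_smul]; rfl⟩
  inv_mem' := by
    rintro a ⟨π, ha⟩
    refine ⟨π.symm, fun j => ?_⟩
    obtain ⟨c, hc⟩ := ha (π.symm j)
    rw [Equiv.apply_symm_apply] at hc
    have hc0 : c ≠ 0 := by
      rintro rfl
      rw [zero_smul] at hc
      exact gm_single_ne a _ hc
    refine ⟨c⁻¹, ?_⟩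
    have h1 := congrArg (fun v => gm a⁻¹ *ᵥ v) hc
    simp only [gm_inv_mulVec, mulVec_smul] at h1
    rw [h1, smul_smul, inv_mul_cancel₀ hc0, one_smul]

theorem mem_Mon {g : GU 3 F q} : g ∈ Mon F q ↔ ∃ π : Equiv.Perm (Fin 3), ∀ j, ∃ c : F,
    gm g *ᵥ (Pi.single j 1 : Fin 3 → F) = c • (Pi.single (π j) 1 : Fin 3 → F) := Iff.rfl

theorem single_map (ρ : F ≃+* F) (j : Fin 3) :
    (fun i => ρ ((Pi.single j 1 : Fin 3 → F) i)) = (Pi.single j 1 : Fin 3 → F) := by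
  funext i
  by_cases hi : i = j
  · subst hi
    rw [Pi.single_eq_same, map_one]
  · rw [Pi.single_eq_of_ne hi, map_zero]

theorem mapGU_mem_Mon (ρ : F ≃+* F) {g : GU 3 F q} (hg : g ∈ Mon F q) : mapGU ρ g ∈ Mon F q := by
  obtain ⟨π, h⟩ := hg
  refine ⟨π, fun j => ?_⟩
  obtain ⟨c, hc⟩ := h j
  refine ⟨ρ c, ?_⟩
  have h1 := gm_mapGU ρ g (Pi.single j 1)
  rw [single_map] at h1
  rw [h1, hc]
  funext i
  have h2 := congrFun (single_map ρ (π j)) i
  rw [Pi.smul_apply, Pi.smul_apply, smul_eq_mul, smul_eq_mul, map_mul, h2]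

theorem mapGU_mul (ρ : F ≃+* F) (A B : GU 3 F q) : mapGU ρ (A * B) = mapGU ρ A * mapGU ρ B := by
  apply gm_inj
  rw [gm_mapGU', gm_mul, gm_mul, gm_mapGU', gm_mapGU']
  exact Matrix.map_mul

theorem mapGU_mapGU (ρ σ : F ≃+* F) (A : GU 3 F q) : mapGU (ρ * σ) A = mapGU ρ (mapGU σ A) := by
  apply gm_inj
  rw [gm_mapGU', gm_mapGU', gm_mapGU']
  rfl

theorem mapGU_inv (ρ : F ≃+* F) (A : GU 3 F q) : mapGU ρ A⁻¹ = (mapGU ρ A)⁻¹ := by
  rw [eq_inv_iff_mul_eq_one, ← mapGU_mul, inv_mul_cancel]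
  apply gm_inj
  rw [gm_mapGU', gm_one]
  ext i j
  rw [Matrix.map_apply, Matrix.one_apply]
  split_ifs
  · exact map_one ρ
  · exact map_zero ρ

theorem mapGU_one' (ρ : F ≃+* F) : mapGU ρ (1 : GU 3 F q) = 1 := by
  have h := mapGU_mul ρ (1 : GU 3 F q) 1
  rw [mul_one] at h
  exact (mul_eq_left.mp h.symm)

/-- `⟦B⟧ ↦ ⟦A ρ(B)⟧` -/
def op (A : GU 3 F q) (ρ : F ≃+* F) : GU 3 F q ⧸ Mon F q → GU 3 F q ⧸ Mon F q :=
  Quotient.map' (fun B => A * mapGU ρ B) (by
    intro B B' h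
    rw [QuotientGroup.leftRel_apply] at h ⊢
    have h1 : (A * mapGU ρ B)⁻¹ * (A * mapGU ρ B') = mapGU ρ (B⁻¹ * B') := by
      rw [mapGU_mul, mapGU_inv]
      group
    rw [h1]
    exact mapGU_mem_Mon ρ h)

theorem op_mk (A : GU 3 F q) (ρ : F ≃+* F) (B : GU 3 F q) :
    op A ρ (B : GU 3 F q ⧸ Mon F q) = ((A * mapGU ρ B : GU 3 F q) : GU 3 F q ⧸ Mon F q) := rfl

theorem op_one (x : GU 3 F q ⧸ Mon F q) : op 1 1 x = x := by
  obtain ⟨B, rfl⟩ := QuotientGroup.mk_surjective x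
  rw [op_mk, one_mul, mapGU_one]

theorem op_mul (A B : GU 3 F q) (ρ σ : F ≃+* F) (x : GU 3 F q ⧸ Mon F q) :
    op (A * mapGU ρ B) (ρ * σ) x = op A ρ (op B σ x) := by
  obtain ⟨C, rfl⟩ := QuotientGroup.mk_surjective x
  rw [op_mk, op_mk, op_mk, mapGU_mul, mapGU_mapGU, mul_assoc]

theorem scalar_mem_Mon {c : F} {g : GU 3 F q} (h : gm g = c • 1) : g ∈ Mon F q :=
  ⟨1, fun j => ⟨c, by rw [h, Matrix.smul_mulVec, one_mulVec]; rfl⟩⟩

theorem op_congr {c : F} {A A' : GU 3 F q} (h : gm A' = c • gm A) (ρ : F ≃+* F) (x : GU 3 F q ⧸ Mon F q) :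
    op A' ρ x = op A ρ x := by
  obtain ⟨B, rfl⟩ := QuotientGroup.mk_surjective x
  rw [op_mk, op_mk]
  symm
  rw [QuotientGroup.eq]
  apply scalar_mem_Mon (c := c)
  have h1 : (A * mapGU ρ B)⁻¹ * (A' * mapGU ρ B) = (mapGU ρ B)⁻¹ * (A⁻¹ * A') * mapGU ρ B := by group
  rw [h1, gm_mul, gm_mul, gm_mul, h, Matrix.mul_smul, gm_inv_mul, Matrix.mul_smul, Matrix.mul_one,
    Matrix.smul_mul, gm_inv_mul]

end Mon

section Act

variable {F : Type*} [Field F] [Fintype F] {q : ℕ}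

/-- The semilinear maps which induce `α`. -/
theorem exists_lift (hF : Fintype.card F = q ^ 2) (hq : 3 ≤ q) (α : MulAut (PSU 3 F q)) :
    ∃ x : GU 3 F q × (F ≃+* F), toAut x.1 x.2 = α := by
  obtain ⟨A, ρ, h⟩ := Cfsg.Agent.ClassicalGeometry.PSUAutMain.exists_toAut hF le_rfl (by omega) α
  exact ⟨(A, ρ), h.symm⟩

/-- chosen lift -/
noncomputable def lift (hF : Fintype.card F = q ^ 2) (hq : 3 ≤ q) (α : MulAut (PSU 3 F q)) :
    GU 3 F q × (F ≃+* F) := (exists_lift hF hq α).choose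

theorem toAut_lift (hF : Fintype.card F = q ^ 2) (hq : 3 ≤ q) (α : MulAut (PSU 3 F q)) :
    toAut (lift hF hq α).1 (lift hF hq α).2 = α := (exists_lift hF hq α).choose_spec

theorem op_lift (hF : Fintype.card F = q ^ 2) (hq : 3 ≤ q) (A : GU 3 F q) (ρ : F ≃+* F)
    (x : GU 3 F q ⧸ Mon F q) :
    op (lift hF hq (toAut A ρ)).1 (lift hF hq (toAut A ρ)).2 x = op A ρ x := by
  obtain ⟨h1, c, -, h2⟩ := eq_of_toAut_eq hF le_rfl (toAut_lift hF hq (toAut A ρ)).symm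
  rw [h1]
  exact op_congr h2 ρ x

/-- The action of the automorphisms on the frames. -/
@[reducible] noncomputable def action (hF : Fintype.card F = q ^ 2) (hq : 3 ≤ q) :
    MulAction (MulAut (PSU 3 F q)) (GU 3 F q ⧸ Mon F q) where
  smul α x := op (lift hF hq α).1 (lift hF hq α).2 x
  one_smul x := by
    show op (lift hF hq 1).1 (lift hF hq 1).2 x = x
    rw [← toAut_one, op_lift, op_one]
  mul_smul α β x := by
    show op (lift hF hq (α * β)).1 (lift hF hq (α * β)).2 x =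
      op (lift hF hq α).1 (lift hF hq α).2 (op (lift hF hq β).1 (lift hF hq β).2 x)
    rw [← op_mul, ← op_lift hF hq ((lift hF hq α).1 * mapGU (lift hF hq α).2 (lift hF hq β).1),
      ← toAut_mul, toAut_lift, toAut_lift]

theorem smul_eq (hF : Fintype.card F = q ^ 2) (hq : 3 ≤ q) (A : GU 3 F q) (ρ : F ≃+* F)
    (x : GU 3 F q ⧸ Mon F q) :
    (action hF hq).toSMul.smul (toAut A ρ) x = op A ρ x := op_lift hF hq A ρ x

/-- determinant -/
theorem det_norm (hF : Fintype.card F = q ^ 2) (A : GU 3 F q) : (gm A).det ^ (q + 1) = 1 :=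
  Cfsg.Agent.ClassicalGeometry.GUBasic.det_pow hF ((Cfsg.Agent.ClassicalGeometry.GUBasic.mem_GU_iff _).1 A.2)

omit [Fintype F] in
theorem diag_mem_Mon (a : Fin 3 → F) (ha : ∀ i, a i ^ (q + 1) = 1) :
    Cfsg.Agent.ClassicalGeometry.GUBasic.guDiag q a ha ∈ Mon F q := by
  refine ⟨1, fun j => ⟨a j, ?_⟩⟩
  show Matrix.diagonal a *ᵥ _ = _
  funext i
  rw [Matrix.mulVec_diagonal, Pi.smul_apply, smul_eq_mul]
  by_cases hi : i = j
  · subst hi; rfl
  · rw [Pi.single_eq_of_ne hi, Equiv.Perm.one_apply, Pi.single_eq_of_ne hi, mul_zero, mul_zero]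

/-- `PSU` is transitive on the frames. -/
theorem exists_conj_smul (hF : Fintype.card F = q ^ 2) (hq : 3 ≤ q) (a b : GU 3 F q ⧸ Mon F q) :
    ∃ k : PSU 3 F q, (action hF hq).toSMul.smul (MulAut.conj k) a = b := by
  obtain ⟨A, rfl⟩ := QuotientGroup.mk_surjective a
  obtain ⟨B, rfl⟩ := QuotientGroup.mk_surjective b
  -- determinants
  obtain ⟨t, ht⟩ : ∃ t, t = (gm A).det * (gm B⁻¹).det := ⟨_, rfl⟩
  have ht1 : t ^ (q + 1) = 1 := by rw [ht, mul_pow, det_norm hF, det_norm hF, one_mul]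
  have ha : ∀ i : Fin 3, (fun i : Fin 3 => if i = 0 then t else 1) i ^ (q + 1) = 1 := by
    intro i
    simp only
    split_ifs
    · exact ht1
    · exact one_pow _
  obtain ⟨D, hD⟩ : ∃ D, D = Cfsg.Agent.ClassicalGeometry.GUBasic.guDiag q _ ha := ⟨_, rfl⟩
  have hDm : D ∈ Mon F q := by rw [hD]; exact diag_mem_Mon _ _
  have hDd : (gm D).det = t := by
    rw [hD]
    show (Matrix.diagonal _).det = t
    rw [Matrix.det_diagonal, Fin.prod_univ_three]
    simp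
  have hdet : (gm (B * D * A⁻¹)).det = 1 := by
    have h1 : (gm A).det * (gm A⁻¹).det = 1 := by rw [← det_mul, gm_mul_inv, det_one]
    have h2 : (gm B).det * (gm B⁻¹).det = 1 := by rw [← det_mul, gm_mul_inv, det_one]
    rw [gm_mul, gm_mul, det_mul, det_mul, hDd, ht]
    linear_combination (gm A).det * (gm A⁻¹).det * h2 + h1
  let g : SU 3 F q := mkSU (gm (B * D * A⁻¹)) hdet (fun u v => herm_gm _ u v)
  refine ⟨pr 3 F q g, ?_⟩
  rw [← f₁_eq_conj (B * D * A⁻¹) g rfl]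
  show (action hF hq).toSMul.smul (toAut (B * D * A⁻¹) 1) _ = _
  rw [smul_eq, op_mk, mapGU_one]
  symm
  rw [QuotientGroup.eq]
  have h1 : B⁻¹ * (B * D * A⁻¹ * A) = D := by group
  rw [h1]
  exact hDm

/-- norms of coefficients -/
theorem coeff_norm {g : GU 3 F q} {j k : Fin 3} {c : F}
    (h : gm g *ᵥ (Pi.single j 1 : Fin 3 → F) = c • (Pi.single k 1 : Fin 3 → F)) : c * c ^ q = 1 := by
  have h1 := herm_gm g (Pi.single j 1) (Pi.single j 1)
  rw [h, herm_smul_left, herm_smul_right, herm_single_left, herm_single_left, Pi.single_eq_same,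
    Pi.single_eq_same, one_pow, mul_one, mul_one] at h1
  exact h1

/-- `e_j ↦ t_j e_{π j}` -/
noncomputable def mono (π : Equiv.Perm (Fin 3)) (t : Fin 3 → {x : F // x * x ^ q = 1}) : GU 3 F q :=
  Cfsg.Agent.ClassicalGeometry.GUBasic.guPerm q π.symm *
    Cfsg.Agent.ClassicalGeometry.GUBasic.guDiag q (fun i => (t i : F)) (fun i => by
      rw [pow_succ']; exact (t i).2)

omit [Fintype F] in
theorem gm_mono (π : Equiv.Perm (Fin 3)) (t : Fin 3 → {x : F // x * x ^ q = 1}) (j : Fin 3) :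
    gm (mono π t) *ᵥ (Pi.single j 1 : Fin 3 → F) = (t j : F) • (Pi.single (π j) 1 : Fin 3 → F) := by
  rw [mono, gm_mul, ← mulVec_mulVec]
  have h1 : gm (Cfsg.Agent.ClassicalGeometry.GUBasic.guDiag q (fun i => (t i : F)) (fun i => by
      rw [pow_succ']; exact (t i).2)) *ᵥ (Pi.single j 1 : Fin 3 → F) =
      (t j : F) • (Pi.single j 1 : Fin 3 → F) := by
    show Matrix.diagonal (fun i => (t i : F)) *ᵥ _ = _
    funext i
    rw [Matrix.mulVec_diagonal, Pi.smul_apply, smul_eq_mul]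
    by_cases hi : i = j
    · subst hi; rfl
    · rw [Pi.single_eq_of_ne hi, mul_zero, mul_zero]
  rw [h1, mulVec_smul]
  congr 1
  show Equiv.Perm.permMatrix F π.symm *ᵥ _ = _
  rw [Matrix.permMatrix_mulVec]
  funext i
  show (Pi.single j 1 : Fin 3 → F) (π.symm i) = (Pi.single (π j) 1 : Fin 3 → F) i
  by_cases hi : i = π j
  · subst hi
    rw [Equiv.symm_apply_apply, Pi.single_eq_same, Pi.single_eq_same]
  · rw [Pi.single_eq_of_ne hi, Pi.single_eq_of_ne]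
    intro h
    apply hi
    rw [← h, Equiv.apply_symm_apply]

theorem card_Mon (hF : Fintype.card F = q ^ 2) : Nat.card (Mon F q) = 6 * (q + 1) ^ 3 := by
  have h1 : Function.Bijective (fun x : Equiv.Perm (Fin 3) × (Fin 3 → {x : F // x * x ^ q = 1}) =>
      (⟨mono x.1 x.2, ⟨x.1, fun j => ⟨_, gm_mono x.1 x.2 j⟩⟩⟩ : Mon F q)) := by
    constructor
    · rintro ⟨π, t⟩ ⟨π', t'⟩ h
      have h1 : mono π t = mono π' t' := congrArg Subtype.val h
      have h2 : ∀ j, (t j : F) • (Pi.single (π j) 1 : Fin 3 → F) = (t' j : F) • (Pi.single (π' j) 1 : Fin 3 → F) := by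
        intro j
        rw [← gm_mono, ← gm_mono, h1]
      have h3 : ∀ j, π j = π' j := by
        intro j
        by_contra hne
        have h4 := congrFun (h2 j) (π j)
        rw [Pi.smul_apply, Pi.smul_apply, Pi.single_eq_same, Pi.single_eq_of_ne hne, smul_eq_mul,
          smul_eq_mul, mul_one, mul_zero] at h4
        have h5 := (t j).2
        rw [h4, zero_mul] at h5
        exact zero_ne_one h5
      have h4 : ∀ j, t j = t' j := by
        intro j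
        have h5 := congrFun (h2 j) (π j)
        rw [Pi.smul_apply, Pi.smul_apply, h3 j, Pi.single_eq_same, smul_eq_mul,
          smul_eq_mul, mul_one, mul_one] at h5
        exact Subtype.ext h5
      rw [Prod.mk.injEq]
      exact ⟨Equiv.ext h3, funext h4⟩
    · rintro ⟨g, hg⟩
      obtain ⟨π, h⟩ := id hg
      choose c hc using h
      refine ⟨(π, fun j => ⟨c j, coeff_norm (hc j)⟩), ?_⟩
      apply Subtype.ext
      apply gm_inj
      apply Matrix.ext_of_mulVec_single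
      intro j
      show gm (mono π _) *ᵥ _ = _
      rw [gm_mono, hc]
  rw [← Nat.card_congr (Equiv.ofBijective _ h1), Nat.card_prod, Nat.card_fun, card_norm_eq_one hF,
    Nat.card_eq_fintype_card, Fintype.card_perm, Nat.card_eq_fintype_card, Fintype.card_fin]
  rfl

theorem card_GU (hF : Fintype.card F = q ^ 2) :
    Nat.card (GU 3 F q) = q ^ 3 * ((q + 1) * (q ^ 2 - 1) * (q ^ 3 + 1)) := by
  rw [S0277.result hF 3, Finset.prod_range_succ, Finset.prod_range_succ, Finset.prod_range_one]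
  norm_num [Nat.even_iff]

instance finite_GU : Finite (GU 3 F q) := Cfsg.Agent.LieClassical.GUOrder.finite_GU (F := F) (q := q) 3

/-- the number of frames -/
theorem card_frames (hF : Fintype.card F = q ^ 2) :
    6 * Nat.card (GU 3 F q ⧸ Mon F q) = q ^ 3 * ((q - 1) * (q ^ 2 - q + 1)) := by
  have h1 := Subgroup.card_eq_card_quotient_mul_card_subgroup (Mon F q)
  rw [card_GU hF, card_Mon hF] at h1
  have h2 := two_le hF
  obtain ⟨m, rfl⟩ : ∃ m, q = m + 1 := ⟨q - 1, by omega⟩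
  have e1 : (m + 1) ^ 2 - 1 = m * (m + 2) := by
    rw [Nat.sub_eq_iff_eq_add (by nlinarith)]; ring
  have e2 : (m + 1) ^ 2 - (m + 1) + 1 = m ^ 2 + m + 1 := by
    have : (m + 1) ^ 2 = m ^ 2 + m + (m + 1) := by ring
    rw [this, Nat.add_sub_cancel]
  rw [e1] at h1
  rw [e2, Nat.add_sub_cancel]
  have h3 : 0 < (m + 1 + 1) ^ 3 := by positivity
  apply Nat.eq_of_mul_eq_mul_right h3
  calc 6 * Nat.card (GU 3 F (m + 1) ⧸ Mon F (m + 1)) * (m + 1 + 1) ^ 3
      = Nat.card (GU 3 F (m + 1) ⧸ Mon F (m + 1)) * (6 * (m + 1 + 1) ^ 3) := by ring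
    _ = (m + 1) ^ 3 * ((m + 1 + 1) * (m * (m + 2)) * ((m + 1) ^ 3 + 1)) := h1.symm
    _ = _ := by ring

theorem not_dvd_frames (hF : Fintype.card F = q ^ 2) (hq : q % 3 = 2) :
    ¬ 3 ∣ Nat.card (GU 3 F q ⧸ Mon F q) := by
  intro h
  obtain ⟨k, hk⟩ := h
  have h1 := card_frames hF
  rw [hk] at h1
  obtain ⟨m, hm⟩ : ∃ m, q = 3 * m + 2 := ⟨q / 3, by omega⟩
  have e1 : q - 1 = 3 * m + 1 := by omega
  have e2 : q ^ 2 - q + 1 = 9 * m ^ 2 + 9 * m + 3 := by
    have : q ^ 2 = (9 * m ^ 2 + 9 * m + 2) + q := by rw [hm]; ring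
    rw [this, Nat.add_sub_cancel]
  rw [e1, e2, hm] at h1
  have h2 : 6 * k * 3 = (3 * m + 2) ^ 3 * ((3 * m + 1) * (3 * m ^ 2 + 3 * m + 1)) * 3 := by
    nlinarith [h1]
  have h3 := Nat.eq_of_mul_eq_mul_right (by norm_num : 0 < 3) h2
  have h4 : (3 * m + 2) ^ 3 * ((3 * m + 1) * (3 * m ^ 2 + 3 * m + 1)) =
      3 * ((9 * m ^ 3 + 18 * m ^ 2 + 12 * m) * (9 * m ^ 3 + 12 * m ^ 2 + 6 * m + 1) +
        8 * (3 * m ^ 3 + 4 * m ^ 2 + 2 * m)) + 8 := by ring
  rw [h4] at h3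
  omega

/-- fixed frames and matrices -/
theorem card_fixed_mul (hF : Fintype.card F = q ^ 2) (A : GU 3 F q) (ρ : F ≃+* F) :
    Nat.card {x : GU 3 F q ⧸ Mon F q // op A ρ x = x} * (6 * (q + 1) ^ 3) =
      Nat.card {B : GU 3 F q // B⁻¹ * (A * mapGU ρ B) ∈ Mon F q} := by
  rw [← card_Mon hF, mul_comm]
  have e := QuotientGroup.preimageMkEquivSubgroupProdSet (Mon F q) {x | op A ρ x = x}
  have h1 := Nat.card_congr e
  rw [Nat.card_prod] at h1
  have h2 : (QuotientGroup.mk ⁻¹' {x : GU 3 F q ⧸ Mon F q | op A ρ x = x} : Set (GU 3 F q)) =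
      {B | B⁻¹ * (A * mapGU ρ B) ∈ Mon F q} := by
    ext B
    show op A ρ (B : GU 3 F q ⧸ Mon F q) = B ↔ _
    rw [op_mk, eq_comm, QuotientGroup.eq]
    rfl
  rw [h2] at h1
  exact h1.symm

end Act

end Cfsg.Agent.H7.Wf.UAct
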