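import Cfsg.Agent.H7.Wf.UAct
import Cfsg.Agent.H7.Wf.UField

/-!
# S3826, `PSU_3`: counting the fixed frames (helper7)
-/

set_option autoImplicit false

namespace Cfsg.Agent.H7.Wf.UCount

open Matrix Cfsg Cfsg.Agent.LieClassical.HermBasic Cfsg.Agent.LieClassical.HermSiegel
open Cfsg.Agent.LieClassical.SUBasic
open Cfsg.Agent.ClassicalGeometry.PSUAutCount
open Cfsg.Agent.ClassicalGeometry.UnitAutBasic (pr pr_surjective)
open Cfsg.Agent.Schreier.PSU (mapGU gm_mapGU f₁ f₁_eq_conj)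
open Cfsg.Agent.CpAutU.Desc (toAut_mul toAut_one gm_mapGU' mapGU_one)
open Cfsg.Agent.H7.Wf.UAct Cfsg.Agent.H7.Wf.UField

theorem card_or_le {α : Type*} [Finite α] {P Q R : α → Prop} (h : ∀ x, P x → Q x ∨ R x) :
    Nat.card {x // P x} ≤ Nat.card {x // Q x} + Nat.card {x // R x} := by
  classical
  rw [← Nat.card_sum]
  refine Nat.card_le_card_of_injective (fun x : {x // P x} =>
    if hq : Q x.1 then (Sum.inl ⟨x.1, hq⟩ : {x // Q x} ⊕ {x // R x})
    else Sum.inr ⟨x.1, (h x.1 x.2).resolve_left hq⟩) ?_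
  rintro ⟨x, hx⟩ ⟨y, hy⟩ hxy
  simp only at hxy
  apply Subtype.ext
  show x = y
  split_ifs at hxy with h1 h2 h2
  · exact congrArg Subtype.val (Sum.inl.inj hxy)
  · exact congrArg Subtype.val (Sum.inr.inj hxy)

section Basic

variable {F : Type*} [Field F] {q : ℕ}

/-- columns -/
def col (B : GU 3 F q) (j : Fin 3) : Fin 3 → F := gm B *ᵥ Pi.single j 1

theorem col_def (B : GU 3 F q) (j : Fin 3) : col B j = gm B *ᵥ Pi.single j 1 := rfl

theorem herm_col (B : GU 3 F q) (i j : Fin 3) (hq : q ≠ 0) :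
    hermForm 3 F q (col B i) (col B j) = if i = j then 1 else 0 := by
  rw [col_def, col_def, herm_gm, herm_single_left]
  by_cases h : i = j
  · subst h
    rw [if_pos rfl, Pi.single_eq_same, one_pow, mul_one]
  · rw [if_neg h, Pi.single_eq_of_ne h, zero_pow hq, mul_zero]

theorem col_ne (B : GU 3 F q) (j : Fin 3) : col B j ≠ 0 := gm_single_ne B j

theorem ext_col {B B' : GU 3 F q} (h : ∀ j, col B j = col B' j) : B = B' := by
  apply gm_inj
  apply Matrix.ext_of_mulVec_single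
  exact h

/-- The semilinear map. -/
def S (A : GU 3 F q) (ρ : F ≃+* F) (v : Fin 3 → F) : Fin 3 → F := gm A *ᵥ (fun i => ρ (v i))

theorem S_def (A : GU 3 F q) (ρ : F ≃+* F) (v : Fin 3 → F) : S A ρ v = gm A *ᵥ (fun i => ρ (v i)) := rfl

theorem S_smul (A : GU 3 F q) (ρ : F ≃+* F) (c : F) (v : Fin 3 → F) : S A ρ (c • v) = ρ c • S A ρ v := by
  rw [S_def, S_def, ← mulVec_smul]
  congr 1
  funext i
  exact map_mul ρ _ _

theorem S_mulVec (A B : GU 3 F q) (ρ : F ≃+* F) (x : Fin 3 → F) :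
    S A ρ (gm B *ᵥ x) = gm (A * mapGU ρ B) *ᵥ (fun i => ρ (x i)) := by
  rw [S_def, gm_mul, ← mulVec_mulVec, gm_mapGU]

theorem S_col (A B : GU 3 F q) (ρ : F ≃+* F) (j : Fin 3) :
    S A ρ (col B j) = gm (A * mapGU ρ B) *ᵥ Pi.single j 1 := by
  rw [col_def, S_mulVec, single_map]

theorem herm_S (A : GU 3 F q) (ρ : F ≃+* F) (u v : Fin 3 → F) :
    hermForm 3 F q (S A ρ u) (S A ρ v) = ρ (hermForm 3 F q u v) := herm_semi A ρ u v

theorem S_ne (A : GU 3 F q) (ρ : F ≃+* F) {v : Fin 3 → F} (hv : v ≠ 0) : S A ρ v ≠ 0 := by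
  intro h
  have h1 := congrArg (fun w => gm A⁻¹ *ᵥ w) h
  simp only [S_def, gm_inv_mulVec, mulVec_zero] at h1
  apply hv
  funext i
  exact (map_eq_zero ρ).1 (congrFun h1 i)

/-- the frames fixed by `S` with the permutation `π` -/
theorem mem_iff (A B : GU 3 F q) (ρ : F ≃+* F) : B⁻¹ * (A * mapGU ρ B) ∈ Mon F q ↔
    ∃ π : Equiv.Perm (Fin 3), ∀ j, ∃ c : F, S A ρ (col B j) = c • col B (π j) := by
  rw [mem_Mon]
  refine exists_congr fun π => forall_congr' fun j => exists_congr fun c => ?_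
  rw [S_col, col_def, ← mulVec_smul, gm_mul, ← mulVec_mulVec]
  constructor
  · intro h
    rw [← h, gm_mulVec_inv]
  · intro h
    rw [h, gm_inv_mulVec]

theorem not_smul_col {B : GU 3 F q} (hq : q ≠ 0) {i j : Fin 3} (hij : i ≠ j) {c d : F} (hd : d ≠ 0)
    (h : c • col B i = d • col B j) : False := by
  have h1 := congrArg (fun w => hermForm 3 F q w (col B j)) h
  simp only [herm_smul_left] at h1
  rw [herm_col _ _ _ hq, herm_col _ _ _ hq, if_neg hij, if_pos rfl, mul_zero, mul_one] at h1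
  exact hd h1.symm

/-- the three permutations -/
theorem perm_three : ∀ π : Equiv.Perm (Fin 3), (∀ j, π (π (π j)) = j) →
    (π 0 = 0 ∧ π 1 = 1 ∧ π 2 = 2) ∨ (π 0 = 1 ∧ π 1 = 2 ∧ π 2 = 0) ∨ (π 0 = 2 ∧ π 2 = 1 ∧ π 1 = 0) := by
  decide

/-- cyclic frames -/
def Cyc (A : GU 3 F q) (ρ : F ≃+* F) (i j k : Fin 3) (B : GU 3 F q) : Prop :=
  (∃ c : F, S A ρ (col B i) = c • col B j) ∧ (∃ c : F, S A ρ (col B j) = c • col B k) ∧
    ∃ c : F, S A ρ (col B k) = c • col B i

/-- fixed frames -/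
def Fx (A : GU 3 F q) (ρ : F ≃+* F) (B : GU 3 F q) : Prop :=
  ∀ j, ∃ c : F, S A ρ (col B j) = c • col B j

theorem cases_of_mem (hq : q ≠ 0) {A B : GU 3 F q} {ρ : F ≃+* F} {l : F} (hl : l ≠ 0)
    (hS : ∀ v, S A ρ (S A ρ (S A ρ v)) = l • v) (h : B⁻¹ * (A * mapGU ρ B) ∈ Mon F q) :
    Fx A ρ B ∨ (Cyc A ρ 0 1 2 B ∨ Cyc A ρ 0 2 1 B) := by
  rw [mem_iff] at h
  obtain ⟨π, h⟩ := h
  have h1 : ∀ j, π (π (π j)) = j := by
    intro j
    by_contra hne
    obtain ⟨c, hc⟩ := h j
    obtain ⟨d, hd⟩ := h (π j)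
    obtain ⟨f, hf⟩ := h (π (π j))
    have h2 := hS (col B j)
    rw [hc, S_smul, S_smul, hd, S_smul, hf, smul_smul, smul_smul] at h2
    exact not_smul_col hq hne hl h2
  rcases perm_three π h1 with ⟨h2, h3, h4⟩ | ⟨h2, h3, h4⟩ | ⟨h2, h3, h4⟩
  · left
    intro j
    have h5 : π j = j := by fin_cases j <;> assumption
    have h6 := h j
    rwa [h5] at h6
  · right; left
    refine ⟨?_, ?_, ?_⟩
    · have h6 := h 0
      rwa [h2] at h6
    · have h6 := h 1
      rwa [h3] at h6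
    · have h6 := h 2
      rwa [h4] at h6
  · right; right
    refine ⟨?_, ?_, ?_⟩
    · have h6 := h 0
      rwa [h2] at h6
    · have h6 := h 2
      rwa [h3] at h6
    · have h6 := h 1
      rwa [h4] at h6

theorem exhaust : ∀ i j k : Fin 3, i ≠ j → i ≠ k → j ≠ k → ∀ l, l = i ∨ l = j ∨ l = k := by decide

theorem univ_three : ∀ i j k : Fin 3, i ≠ j → i ≠ k → j ≠ k → (Finset.univ : Finset (Fin 3)) = {i, j, k} := by
  decide

theorem sum_three {M : Type*} [AddCommMonoid M] (f : Fin 3 → M) {i j k : Fin 3} (hij : i ≠ j) (hik : i ≠ k)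
    (hjk : j ≠ k) : ∑ l, f l = f i + f j + f k := by
  rw [univ_three i j k hij hik hjk, Finset.sum_insert (by simp [hij, hik]), Finset.sum_pair hjk, add_assoc]

theorem prod_three {M : Type*} [CommMonoid M] (f : Fin 3 → M) {i j k : Fin 3} (hij : i ≠ j) (hik : i ≠ k)
    (hjk : j ≠ k) : ∏ l, f l = f i * f j * f k := by
  rw [univ_three i j k hij hik hjk, Finset.prod_insert (by simp [hij, hik]), Finset.prod_pair hjk, mul_assoc]

theorem exists_third : ∀ i j : Fin 3, i ≠ j → ∃ k, i ≠ k ∧ j ≠ k := by decide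

end Basic

section Fin

variable {F : Type*} [Field F] [Fintype F] {q : ℕ}

/-- two columns and the determinant determine the matrix -/
theorem eq_of_two (hF : Fintype.card F = q ^ 2) {B B' : GU 3 F q} {i j : Fin 3} (hij : i ≠ j)
    (h1 : col B i = col B' i) (h2 : col B j = col B' j) (h3 : (gm B).det = (gm B').det) : B = B' := by
  obtain ⟨k, hik, hjk⟩ := exists_third i j hij
  have hq : q ≠ 0 := (q_pos hF).ne'
  obtain ⟨C, hC⟩ : ∃ C, C = B⁻¹ * B' := ⟨_, rfl⟩
  have hci : gm C *ᵥ (Pi.single i 1 : Fin 3 → F) = Pi.single i 1 := by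
    have : gm B' *ᵥ (Pi.single i 1 : Fin 3 → F) = gm B *ᵥ (Pi.single i 1 : Fin 3 → F) := h1.symm
    rw [hC, gm_mul, ← mulVec_mulVec, this, gm_inv_mulVec]
  have hcj : gm C *ᵥ (Pi.single j 1 : Fin 3 → F) = Pi.single j 1 := by
    have : gm B' *ᵥ (Pi.single j 1 : Fin 3 → F) = gm B *ᵥ (Pi.single j 1 : Fin 3 → F) := h2.symm
    rw [hC, gm_mul, ← mulVec_mulVec, this, gm_inv_mulVec]
  have hd : (gm C).det = 1 := by
    have h4 : (gm B⁻¹).det * (gm B).det = 1 := by rw [← det_mul, gm_inv_mul, det_one]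
    rw [hC, gm_mul, det_mul, ← h3, h4]
  have hcol : ∀ {m : Fin 3}, gm C *ᵥ (Pi.single m 1 : Fin 3 → F) = Pi.single m 1 → ∀ l, gm C l m =
      (Pi.single m 1 : Fin 3 → F) l := by
    intro m h5 l
    have h4 := congrFun h5 l
    rw [Matrix.mulVec_single_one] at h4
    exact h4
  have key : ∀ {m l : Fin 3}, gm C *ᵥ (Pi.single m 1 : Fin 3 → F) = Pi.single m 1 → l ≠ m →
      gm C m l = 0 := by
    intro m l h5 hlm
    have h4 := herm_gm C (Pi.single l 1) (Pi.single m 1)
    rw [h5, herm_single_left, Pi.single_eq_of_ne hlm, zero_pow hq, mul_zero, herm_single_right hF,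
      one_pow, mul_one, Matrix.mulVec_single_one] at h4
    exact h4
  have hdiag : gm C = Matrix.diagonal (fun l => gm C l l) := by
    ext m l
    by_cases hml : m = l
    · subst hml; rw [Matrix.diagonal_apply_eq]
    · rw [Matrix.diagonal_apply_ne _ hml]
      rcases exhaust i j k hij hik hjk l with rfl | rfl | rfl
      · rw [hcol hci, Pi.single_eq_of_ne hml]
      · rw [hcol hcj, Pi.single_eq_of_ne hml]
      · rcases exhaust i j l hij hik hjk m with rfl | rfl | rfl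
        · exact key hci (Ne.symm hml)
        · exact key hcj (Ne.symm hml)
        · exact absurd rfl hml
  have hdi : gm C i i = 1 := by rw [hcol hci, Pi.single_eq_same]
  have hdj : gm C j j = 1 := by rw [hcol hcj, Pi.single_eq_same]
  have hdk : gm C k k = 1 := by
    rw [hdiag, Matrix.det_diagonal, prod_three _ hij hik hjk, hdi, hdj, one_mul, one_mul] at hd
    exact hd
  have h1 : C = 1 := by
    apply gm_inj
    rw [gm_one, hdiag, ← Matrix.diagonal_one]
    congr 1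
    funext l
    rcases exhaust i j k hij hik hjk l with rfl | rfl | rfl <;> assumption
  rw [hC, inv_mul_eq_one] at h1
  exact h1

/-- counting matrices by two columns and the determinant -/
theorem card_le_of_two (hF : Fintype.card F = q ^ 2) {i j : Fin 3} (hij : i ≠ j) {P : GU 3 F q → Prop}
    {T : Type*} [Finite T] (f : {B // P B} → T)
    (hf : ∀ B B' : {B // P B}, f B = f B' → col B.1 i = col B'.1 i ∧ col B.1 j = col B'.1 j) :
    Nat.card {B // P B} ≤ Nat.card T * (q + 1) := by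
  rw [← card_norm_eq_one hF, ← Nat.card_prod]
  refine Nat.card_le_card_of_injective (fun B => (f B, ⟨(gm B.1).det, by
    rw [← pow_succ']; exact det_norm hF B.1⟩)) ?_
  intro B B' h
  simp only [Prod.mk.injEq, Subtype.mk.injEq] at h
  obtain ⟨h1, h2⟩ := hf B B' h.1
  exact Subtype.ext (eq_of_two hF hij h1 h2 h.2)

omit [Fintype F] in
theorem expand (ρ : F ≃+* F) (y : Fin 3 → F) :
    (fun i => ρ (y i)) = ∑ l, ρ (y l) • (Pi.single l 1 : Fin 3 → F) := by
  funext i
  rw [Finset.sum_apply, Finset.sum_eq_single i]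
  · rw [Pi.smul_apply, Pi.single_eq_same, smul_eq_mul, mul_one]
  · intro b _ hb
    rw [Pi.smul_apply, Pi.single_eq_of_ne hb.symm, smul_zero]
  · intro h
    exact absurd (Finset.mem_univ i) h

omit [Fintype F] in
theorem S_expand (A B : GU 3 F q) (ρ : F ≃+* F) (y : Fin 3 → F) :
    S A ρ (gm B *ᵥ y) = ∑ l, ρ (y l) • S A ρ (col B l) := by
  rw [S_mulVec, expand, mulVec_sum]
  refine Finset.sum_congr rfl fun l _ => ?_
  rw [mulVec_smul, S_col]

theorem herm_mulVec_col (hF : Fintype.card F = q ^ 2) (B : GU 3 F q) (y : Fin 3 → F) (l : Fin 3) :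
    hermForm 3 F q (gm B *ᵥ y) (col B l) = y l := by
  rw [col_def, herm_gm, herm_single_right hF, one_pow, mul_one]

omit [Fintype F] in
/-- coefficients -/
theorem coeff_norm' (hq : q ≠ 0) {A B : GU 3 F q} {ρ : F ≃+* F} {i j : Fin 3} {c : F}
    (h : S A ρ (col B i) = c • col B j) : c * c ^ q = 1 := by
  have h1 := herm_S A ρ (col B i) (col B i)
  rw [h, herm_smul_left, herm_smul_right, herm_col _ _ _ hq, herm_col _ _ _ hq, if_pos rfl, if_pos rfl,
    map_one, mul_one] at h1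
  exact h1

/-- the solution set -/
def Sol (q : ℕ) (τ : F ≃+* F) (a b c : F) (v : F × F × F) : Prop :=
  v.1 * v.1 ^ q + v.2.1 * v.2.1 ^ q + v.2.2 * v.2.2 ^ q = 1 ∧
      a * (v.2.1 * τ v.1) + b * (v.2.2 * τ v.2.1) + c * (v.1 * τ v.2.2) = 0

theorem card_Sol (hF : Fintype.card F = q ^ 2) (τ : F ≃+* F) {a b c : F} (hb : b ≠ 0) :
    Nat.card {v // Sol q τ a b c v} ≤ (q + 1) * (2 * q ^ 2 + 2) := by
  classical
  rw [Nat.card_eq_fintype_card, Fintype.card_subtype]
  convert card_cyc τ hF (a := a) (c := c) hb using 3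
  rfl

/-- **cyclic frames** -/
theorem card_Cyc (hF : Fintype.card F = q ^ 2) (A : GU 3 F q) (ρ : F ≃+* F) {i j k : Fin 3} (hij : i ≠ j)
    (hik : i ≠ k) (hjk : j ≠ k) :
    Nat.card {B // Cyc A ρ i j k B} ≤ (2 * q ^ 2 + 2) * (q + 1) ^ 3 := by
  have hq : q ≠ 0 := (q_pos hF).ne'
  by_cases hne : ∃ B, Cyc A ρ i j k B
  swap
  · have : IsEmpty {B // Cyc A ρ i j k B} := ⟨fun B => hne ⟨B.1, B.2⟩⟩
    rw [Nat.card_of_isEmpty]
    exact Nat.zero_le _
  obtain ⟨B₀, ⟨c₀, h₀⟩, ⟨c₁, h₁⟩, ⟨c₂, h₂⟩⟩ := hne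
  have hc₁ : c₁ ≠ 0 := by
    rintro rfl
    have := coeff_norm' hq h₁
    rw [zero_mul] at this
    exact zero_ne_one this
  -- coordinates
  let y : {B // Cyc A ρ i j k B} → Fin 3 → F := fun B => gm B₀⁻¹ *ᵥ col B.1 i
  have hy : ∀ B, gm B₀ *ᵥ y B = col B.1 i := fun B => gm_mulVec_inv _ _
  let c : {B // Cyc A ρ i j k B} → F := fun B => B.2.1.choose
  have hc : ∀ B, S A ρ (col B.1 i) = c B • col B.1 j := fun B => B.2.1.choose_spec
  have hcn : ∀ B, c B * c B ^ q = 1 := fun B => coeff_norm' hq (hc B)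
  have hsol : ∀ B, Sol q (ρ.trans (conj hF)) (c₀ ^ q) (c₁ ^ q) (c₂ ^ q) (y B i, y B j, y B k) := by
    intro B
    refine ⟨?_, ?_⟩
    · have e1 : hermForm 3 F q (y B) (y B) = 1 := by
        rw [← herm_gm B₀, hy, herm_col _ _ _ hq, if_pos rfl]
      rw [herm_def, sum_three _ hij hik hjk] at e1
      exact e1
    · have e1 : hermForm 3 F q (gm B₀ *ᵥ y B) (S A ρ (gm B₀ *ᵥ y B)) = 0 := by
        rw [hy, hc, herm_smul_right, herm_col _ _ _ hq, if_neg hij, mul_zero]
      rw [S_expand, sum_three _ hij hik hjk, h₀, h₁, h₂, herm_add_right hF, herm_add_right hF,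
        herm_smul_right, herm_smul_right, herm_smul_right, herm_smul_right, herm_smul_right,
        herm_smul_right, herm_mulVec_col hF, herm_mulVec_col hF, herm_mulVec_col hF] at e1
      show c₀ ^ q * (y B j * (ρ (y B i)) ^ q) + c₁ ^ q * (y B k * (ρ (y B j)) ^ q) +
        c₂ ^ q * (y B i * (ρ (y B k)) ^ q) = 0
      linear_combination e1
  have h3 := card_le_of_two hF hij (P := Cyc A ρ i j k)
    (T := {v // Sol q (ρ.trans (conj hF)) (c₀ ^ q) (c₁ ^ q) (c₂ ^ q) v} × {x : F // x * x ^ q = 1})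
    (fun B => (⟨_, hsol B⟩, ⟨c B, hcn B⟩)) (by
      intro B B' h
      simp only [Prod.mk.injEq, Subtype.mk.injEq] at h
      obtain ⟨⟨e1, e2, e3⟩, e4⟩ := h
      have e5 : y B = y B' := by
        funext l
        rcases exhaust i j k hij hik hjk l with rfl | rfl | rfl <;> assumption
      have e6 : col B.1 i = col B'.1 i := by rw [← hy, ← hy, e5]
      refine ⟨e6, ?_⟩
      have e7 := hc B
      rw [e6, hc B', ← e4] at e7
      have e8 : c B ≠ 0 := by
        intro h0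
        have := hcn B
        rw [h0, zero_mul] at this
        exact zero_ne_one this
      exact (smul_right_injective _ e8 e7).symm)
  rw [Nat.card_prod, card_norm_eq_one hF] at h3
  have h4 := card_Sol hF (ρ.trans (conj hF)) (a := c₀ ^ q) (c := c₂ ^ q) (pow_ne_zero q hc₁)
  calc _ ≤ _ := h3
    _ ≤ (q + 1) * (2 * q ^ 2 + 2) * (q + 1) * (q + 1) := by gcongr
    _ = _ := by ring

/-- frames with a given axis -/
theorem card_axis (hF : Fintype.card F = q ^ 2) (B₀ : GU 3 F q) (i j : Fin 3) :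
    Nat.card {B : GU 3 F q // ∃ t : F, col B j = t • col B₀ i} ≤ q ^ 2 * (q + 1) ^ 3 := by
  classical
  have hq : q ≠ 0 := (q_pos hF).ne'
  obtain ⟨k, hjk⟩ : ∃ k, j ≠ k := by
    revert j; decide
  obtain ⟨l, m, hil, him, hlm⟩ : ∃ l m : Fin 3, i ≠ l ∧ i ≠ m ∧ l ≠ m := by
    revert i; decide
  let t : {B : GU 3 F q // ∃ t : F, col B j = t • col B₀ i} → F := fun B => B.2.choose
  have ht : ∀ B, col B.1 j = t B • col B₀ i := fun B => B.2.choose_spec
  have htn : ∀ B, t B * t B ^ q = 1 := by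
    intro B
    have h1 := herm_col B.1 j j hq
    rw [ht, herm_smul_left, herm_smul_right, herm_col _ _ _ hq, if_pos rfl, if_pos rfl, mul_one] at h1
    exact h1
  have ht0 : ∀ B, t B ≠ 0 := by
    intro B h0
    have := htn B
    rw [h0, zero_mul] at this
    exact zero_ne_one this
  let y : {B : GU 3 F q // ∃ t : F, col B j = t • col B₀ i} → Fin 3 → F := fun B => gm B₀⁻¹ *ᵥ col B.1 k
  have hy : ∀ B, gm B₀ *ᵥ y B = col B.1 k := fun B => gm_mulVec_inv _ _
  have hyi : ∀ B, y B i = 0 := by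
    intro B
    have h1 : hermForm 3 F q (col B.1 k) (col B.1 j) = 0 := by
      rw [herm_col _ _ _ hq, if_neg hjk.symm]
    rw [ht, herm_smul_right, ← hy, herm_mulVec_col hF] at h1
    rcases mul_eq_zero.1 h1 with h2 | h2
    · exact absurd h2 (pow_ne_zero _ (ht0 B))
    · exact h2
  have hyn : ∀ B, y B l * y B l ^ q + y B m * y B m ^ q = 1 := by
    intro B
    have e1 : hermForm 3 F q (y B) (y B) = 1 := by
      rw [← herm_gm B₀, hy, herm_col _ _ _ hq, if_pos rfl]
    rw [herm_def, sum_three _ hil him hlm, hyi, zero_mul, zero_add] at e1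
    exact e1
  have h3 := card_le_of_two hF hjk (P := fun B : GU 3 F q => ∃ t : F, col B j = t • col B₀ i)
    (T := {x : F // x * x ^ q = 1} × {v : F × F // v.1 * v.1 ^ q + v.2 * v.2 ^ q = 1})
    (fun B => (⟨t B, htn B⟩, ⟨(y B l, y B m), hyn B⟩)) (by
      intro B B' h
      simp only [Prod.mk.injEq, Subtype.mk.injEq] at h
      obtain ⟨e4, e2, e3⟩ := h
      have e5 : y B = y B' := by
        funext n
        rcases exhaust i l m hil him hlm n with rfl | rfl | rfl
        · rw [hyi, hyi]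
        · exact e2
        · exact e3
      refine ⟨?_, ?_⟩
      · rw [ht, ht, e4]
      · rw [← hy, ← hy, e5])
  rw [Nat.card_prod, card_norm_eq_one hF] at h3
  have h4 : Nat.card {v : F × F // v.1 * v.1 ^ q + v.2 * v.2 ^ q = 1} ≤ q ^ 2 * (q + 1) := by
    rw [Nat.card_eq_fintype_card, Fintype.card_subtype]
    exact card_pair_le hF 1
  calc _ ≤ _ := h3
    _ ≤ (q + 1) * (q ^ 2 * (q + 1)) * (q + 1) := by gcongr
    _ = _ := by ring

theorem exists_dist {α : Type*} (a : Fin 3 → α) (h : ¬ ∀ i j, a i = a j) : ∃ i, ∀ l, l ≠ i → a l ≠ a i := by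
  classical
  by_cases h01 : a 0 = a 1
  · by_cases h02 : a 0 = a 2
    · exfalso
      apply h
      intro i j
      have h1 : ∀ i, a i = a 0 := by
        intro i
        fin_cases i
        · rfl
        · exact h01.symm
        · exact h02.symm
      rw [h1 i, h1 j]
    · refine ⟨2, fun l hl => ?_⟩
      fin_cases l
      · exact h02
      · intro h3; exact h02 (h01.trans h3)
      · exact absurd rfl hl
  · by_cases h02 : a 0 = a 2
    · refine ⟨1, fun l hl => ?_⟩
      fin_cases l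
      · exact h01
      · exact absurd rfl hl
      · intro h3; exact h01 (h02.trans h3)
    · refine ⟨0, fun l hl => ?_⟩
      fin_cases l
      · exact absurd rfl hl
      · exact fun h3 => h01 h3.symm
      · exact fun h3 => h02 h3.symm

/-- **fixed frames of linear elements** -/
theorem card_Fx_lin (hF : Fintype.card F = q ^ 2) {A : GU 3 F q} (hA : ¬ ∃ c : F, gm A = c • 1) :
    Nat.card {B // Fx A 1 B} ≤ 3 * q ^ 2 * (q + 1) ^ 3 := by
  have hq : q ≠ 0 := (q_pos hF).ne'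
  by_cases hne : ∃ B, Fx A 1 B
  swap
  · have : IsEmpty {B // Fx A 1 B} := ⟨fun B => hne ⟨B.1, B.2⟩⟩
    rw [Nat.card_of_isEmpty]
    exact Nat.zero_le _
  obtain ⟨B₀, h₀⟩ := hne
  choose a ha using h₀
  obtain ⟨i, hi⟩ := exists_dist a (by
    intro hall
    apply hA
    refine ⟨a 0, ?_⟩
    have h1 : gm (A * B₀) = a 0 • gm B₀ := by
      apply Matrix.ext_of_mulVec_single
      intro j
      have h2 := ha j
      rw [S_col, mapGU_one, hall j 0] at h2
      rw [h2, Matrix.smul_mulVec, col_def]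
    have h3 := congrArg (fun M => M * gm B₀⁻¹) h1
    simp only [gm_mul, Matrix.smul_mul, gm_mul_inv] at h3
    rw [Matrix.mul_assoc, gm_mul_inv, Matrix.mul_one] at h3
    exact h3)
  have key : ∀ B, Fx A 1 B → (∃ t : F, col B 0 = t • col B₀ i) ∨ ((∃ t : F, col B 1 = t • col B₀ i) ∨
      (∃ t : F, col B 2 = t • col B₀ i)) := by
    intro B hB
    choose c hc using hB
    have h1 : ∃ j, (gm B₀⁻¹ *ᵥ col B j) i ≠ 0 := by
      by_contra hno
      push Not at hno
      have h2 : gm B⁻¹ *ᵥ col B₀ i = 0 := by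
        funext j
        have h3 := hno j
        rw [← herm_mulVec_col hF B₀ (gm B₀⁻¹ *ᵥ col B j) i, gm_mulVec_inv] at h3
        have h4 := herm_eq_zero_swap hF h3
        rw [show col B₀ i = gm B *ᵥ (gm B⁻¹ *ᵥ col B₀ i) by rw [gm_mulVec_inv], herm_mulVec_col hF] at h4
        exact h4
      have h3 := congrArg (fun v => gm B *ᵥ v) h2
      simp only [gm_mulVec_inv, mulVec_zero] at h3
      exact col_ne _ _ h3
    obtain ⟨j, hj⟩ := h1
    obtain ⟨y, hy⟩ : ∃ y, y = gm B₀⁻¹ *ᵥ col B j := ⟨_, rfl⟩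
    have hy' : gm B₀ *ᵥ y = col B j := by rw [hy, gm_mulVec_inv]
    rw [← hy] at hj
    have h2 : ∀ l, a l * y l = c j * y l := by
      intro l
      have h3 := hc j
      rw [← hy'] at h3
      have h4 : hermForm 3 F q (S A 1 (gm B₀ *ᵥ y)) (col B₀ l) =
          hermForm 3 F q (c j • (gm B₀ *ᵥ y)) (col B₀ l) := by rw [h3]
      rw [herm_smul_left, herm_mulVec_col hF, S_expand, herm_sum_left, Finset.sum_eq_single l] at h4
      · rw [herm_smul_left, ha, herm_smul_left, herm_col _ _ _ hq, if_pos rfl, mul_one] at h4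
        rw [← h4, mul_comm]
        rfl
      · intro m _ hm
        rw [herm_smul_left, ha, herm_smul_left, herm_col _ _ _ hq, if_neg hm, mul_zero, mul_zero]
      · intro h5
        exact absurd (Finset.mem_univ l) h5
    have h3 : a i = c j := mul_right_cancel₀ hj (h2 i)
    have h4 : ∀ l, l ≠ i → y l = 0 := by
      intro l hl
      by_contra hyl
      exact hi l hl ((mul_right_cancel₀ hyl (h2 l)).trans h3.symm)
    have h5 : col B j = y i • col B₀ i := by
      rw [← hy', col_def, ← mulVec_smul]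
      congr 1
      funext l
      by_cases hl : l = i
      · subst hl
        rw [Pi.smul_apply, Pi.single_eq_same, smul_eq_mul, mul_one]
      · rw [h4 l hl, Pi.smul_apply, Pi.single_eq_of_ne hl, smul_zero]
    fin_cases j
    · exact Or.inl ⟨_, h5⟩
    · exact Or.inr (Or.inl ⟨_, h5⟩)
    · exact Or.inr (Or.inr ⟨_, h5⟩)
  have h1 := card_or_le key
  have h2 := card_or_le (α := GU 3 F q) (P := fun B => (∃ t : F, col B 1 = t • col B₀ i) ∨
      (∃ t : F, col B 2 = t • col B₀ i)) (fun x h => h)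
  have h3 := card_axis hF B₀ i 0
  have h4 := card_axis hF B₀ i 1
  have h5 := card_axis hF B₀ i 2
  calc _ ≤ _ := h1
    _ ≤ q ^ 2 * (q + 1) ^ 3 + (q ^ 2 * (q + 1) ^ 3 + q ^ 2 * (q + 1) ^ 3) := by
        exact Nat.add_le_add h3 (h2.trans (Nat.add_le_add h4 h5))
    _ = _ := by ring

end Fin

section Semi

open Cfsg.Agent.CpAut.Psl Cfsg.Agent.CpAut.Descent Finset

variable {F : Type*} [Field F] [Fintype F] {q : ℕ}

theorem card_fixf_filter [DecidableEq F] (ρ : F ≃+* F) : #{x : F | ρ x = x} = Nat.card ↥(fixf ρ) := by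
  rw [← Fintype.card_subtype, ← Nat.card_eq_fintype_card]
  exact Nat.card_congr (Equiv.subtypeEquivRight fun x => (mem_fixf (σ := ρ)).symm)

/-- first nonzero coordinate -/
noncomputable def ld [DecidableEq F] (v : Fin 3 → F) : F :=
  if v 0 = 0 then (if v 1 = 0 then v 2 else v 1) else v 0

omit [Fintype F] in
theorem ld_cases [DecidableEq F] (v : Fin 3 → F) : (v 0 ≠ 0 ∧ ld v = v 0) ∨ (v 0 = 0 ∧ v 1 ≠ 0 ∧ ld v = v 1) ∨
    (v 0 = 0 ∧ v 1 = 0 ∧ ld v = v 2) := by
  unfold ld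
  by_cases h0 : v 0 = 0
  · by_cases h1 : v 1 = 0
    · right; right; exact ⟨h0, h1, by rw [if_pos h0, if_pos h1]⟩
    · right; left; exact ⟨h0, h1, by rw [if_pos h0, if_neg h1]⟩
  · left; exact ⟨h0, by rw [if_neg h0]⟩

theorem ld_ne [DecidableEq F] {v : Fin 3 → F} (hv : v ≠ 0) : ld v ≠ 0 := by
  rcases ld_cases v with ⟨h0, h⟩ | ⟨h0, h1, h⟩ | ⟨h0, h1, h⟩
  · rwa [h]
  · rwa [h]
  · rw [h]
    intro h2
    apply hv
    funext i
    fin_cases i
    · exact h0
    · exact h1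
    · exact h2

/-- rational points -/
theorem card_rat (hF : Fintype.card F = q ^ 2) (ρ : F ≃+* F) :
    Nat.card {v : Fin 3 → F // hermForm 3 F q v v = 1 ∧ ∃ c : F, (fun i => ρ (v i)) = c • v} ≤
      (q + 1) * (Nat.card ↥(fixf ρ) ^ 2 + Nat.card ↥(fixf ρ) + 1) := by
  classical
  obtain ⟨R, hR⟩ : ∃ R : Finset (Fin 3 → F), R = Finset.univ.filter (fun v : Fin 3 → F =>
      hermForm 3 F q v v = 1 ∧ ∃ c : F, (fun i => ρ (v i)) = c • v) := ⟨_, rfl⟩
  have hmem : ∀ v, v ∈ R ↔ hermForm 3 F q v v = 1 ∧ ∃ c : F, (fun i => ρ (v i)) = c • v := by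
    intro v; rw [hR, mem_filter]; simp
  rw [Nat.card_eq_fintype_card, Fintype.card_subtype, ← hR]
  have hne : ∀ v, v ∈ R → v ≠ 0 := by
    rintro v hv rfl
    rw [hmem, herm_zero_left] at hv
    exact zero_ne_one hv.1
  have hratio : ∀ v, v ∈ R → ∀ i, ρ (v i / ld v) = v i / ld v := by
    intro v hv i
    obtain ⟨c, hc⟩ := ((hmem v).1 hv).2
    have h1 : ∀ j, ρ (v j) = c * v j := fun j => congrFun hc j
    have h2 : ρ (ld v) = c * ld v := by
      rcases ld_cases v with ⟨h0, h⟩ | ⟨h0, h1, h⟩ | ⟨h0, h1, h⟩ <;> rw [h] <;> apply_assumption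
    have h3 : ld v ≠ 0 := ld_ne (hne v hv)
    have h4 : c ≠ 0 := by
      rintro rfl
      rw [zero_mul] at h2
      exact h3 ((map_eq_zero ρ).1 h2)
    rw [map_div₀, h1, h2, mul_div_mul_left _ _ h4]
  have hmain := card_le_mul_card_image (f := fun v : Fin 3 → F => (ld v)⁻¹ • v) R (q + 1) (by
    intro u _
    refine le_trans ?_ (card_norm_le hF (hermForm 3 F q u u)⁻¹)
    refine card_le_card_of_injOn (fun v => ld v) ?_ ?_
    · intro v hv
      simp only [coe_filter, mem_filter, mem_univ, true_and, Set.mem_ofPred_eq] at hv ⊢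
      obtain ⟨h1, h2⟩ := hv
      have h3 := ((hmem v).1 h1).1
      have h4 : ld v ≠ 0 := ld_ne (hne v h1)
      have h5 : v = ld v • u := by rw [← h2, smul_smul, mul_inv_cancel₀ h4, one_smul]
      apply eq_inv_of_mul_eq_one_left
      generalize ld v = x at h5
      rw [h5, herm_smul_left, herm_smul_right] at h3
      linear_combination h3
    · intro v hv w hw h
      simp only [coe_filter, mem_filter, Set.mem_ofPred_eq] at hv hw
      have h : ld v = ld w := h
      have h3 : ld v ≠ 0 := ld_ne (hne v hv.1)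
      have h4 : v = ld v • u := by rw [← hv.2, smul_smul, mul_inv_cancel₀ h3, one_smul]
      have h5 : w = ld w • u := by rw [← hw.2, smul_smul, mul_inv_cancel₀ (h ▸ h3), one_smul]
      rw [h4, h5, h])
  refine hmain.trans (Nat.mul_le_mul_left _ ?_)
  obtain ⟨F₀, hF₀⟩ : ∃ F₀ : Finset F, F₀ = Finset.univ.filter (fun x : F => ρ x = x) := ⟨_, rfl⟩
  have hF₀m : ∀ x, x ∈ F₀ ↔ ρ x = x := by intro x; rw [hF₀, mem_filter]; simp
  have hF₀c : #F₀ = Nat.card ↥(fixf ρ) := by rw [hF₀]; exact card_fixf_filter ρ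
  have hsub : R.image (fun v : Fin 3 → F => (ld v)⁻¹ • v) ⊆
      ((F₀ ×ˢ F₀).image (fun p : F × F => (![1, p.1, p.2] : Fin 3 → F)) ∪
        F₀.image (fun p : F => (![0, 1, p] : Fin 3 → F))) ∪ {(![0, 0, 1] : Fin 3 → F)} := by
    intro u hu
    rw [mem_image] at hu
    obtain ⟨v, hv, rfl⟩ := hu
    have h1 := hratio v hv
    have h2 : ld v ≠ 0 := ld_ne (hne v hv)
    rw [mem_union, mem_union, mem_image, mem_image, mem_singleton]
    rcases ld_cases v with ⟨h0, h⟩ | ⟨h0, h3, h⟩ | ⟨h0, h3, h⟩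
    · left; left
      refine ⟨(v 1 / ld v, v 2 / ld v), ?_, ?_⟩
      · rw [mem_product, hF₀m, hF₀m]
        exact ⟨h1 1, h1 2⟩
      · funext i
        fin_cases i
        · show (1 : F) = (ld v)⁻¹ * v 0
          rw [← h, inv_mul_cancel₀ h2]
        · show v 1 / ld v = (ld v)⁻¹ * v 1
          rw [div_eq_inv_mul]
        · show v 2 / ld v = (ld v)⁻¹ * v 2
          rw [div_eq_inv_mul]
    · left; right
      refine ⟨v 2 / ld v, ?_, ?_⟩
      · rw [hF₀m]
        exact h1 2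
      · funext i
        fin_cases i
        · show (0 : F) = (ld v)⁻¹ * v 0
          rw [h0, mul_zero]
        · show (1 : F) = (ld v)⁻¹ * v 1
          rw [← h, inv_mul_cancel₀ h2]
        · show v 2 / ld v = (ld v)⁻¹ * v 2
          rw [div_eq_inv_mul]
    · right
      funext i
      fin_cases i
      · show (ld v)⁻¹ * v 0 = (0 : F)
        rw [h0, mul_zero]
      · show (ld v)⁻¹ * v 1 = (0 : F)
        rw [h3, mul_zero]
      · show (ld v)⁻¹ * v 2 = (1 : F)
        rw [← h, inv_mul_cancel₀ h2]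
  refine (card_le_card hsub).trans ((card_union_le _ _).trans ?_)
  rw [card_singleton]
  refine Nat.add_le_add_right ((card_union_le _ _).trans (Nat.add_le_add ?_ ?_)) 1
  · refine card_image_le.trans ?_
    rw [card_product, hF₀c, sq]
  · exact card_image_le.trans hF₀c.le

/-- **fixed frames of field automorphisms** -/
theorem card_Fx_semi (hF : Fintype.card F = q ^ 2) (ρ : F ≃+* F) :
    Nat.card {B : GU 3 F q // Fx 1 ρ B} ≤
      (Nat.card ↥(fixf ρ) ^ 2 + Nat.card ↥(fixf ρ) + 1) ^ 2 * (q + 1) ^ 3 := by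
  have hq : q ≠ 0 := (q_pos hF).ne'
  have h1 : ∀ (B : {B : GU 3 F q // Fx 1 ρ B}) (j : Fin 3), hermForm 3 F q (col B.1 j) (col B.1 j) = 1 ∧
      ∃ c : F, (fun i => ρ (col B.1 j i)) = c • col B.1 j := by
    intro B j
    refine ⟨by rw [herm_col _ _ _ hq, if_pos rfl], ?_⟩
    obtain ⟨c, hc⟩ := B.2 j
    refine ⟨c, ?_⟩
    rw [S_def, gm_one, one_mulVec] at hc
    exact hc
  have h3 := card_le_of_two hF (i := 0) (j := 1) (by decide) (P := fun B : GU 3 F q => Fx 1 ρ B)
    (T := {v : Fin 3 → F // hermForm 3 F q v v = 1 ∧ ∃ c : F, (fun i => ρ (v i)) = c • v} ×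
      {v : Fin 3 → F // hermForm 3 F q v v = 1 ∧ ∃ c : F, (fun i => ρ (v i)) = c • v})
    (fun B => (⟨col B.1 0, h1 B 0⟩, ⟨col B.1 1, h1 B 1⟩)) (by
      intro B B' h
      simp only [Prod.mk.injEq, Subtype.mk.injEq] at h
      exact h)
  rw [Nat.card_prod] at h3
  have h4 := card_rat hF ρ
  calc _ ≤ _ := h3
    _ ≤ ((q + 1) * (Nat.card ↥(fixf ρ) ^ 2 + Nat.card ↥(fixf ρ) + 1)) *
        ((q + 1) * (Nat.card ↥(fixf ρ) ^ 2 + Nat.card ↥(fixf ρ) + 1)) * (q + 1) := by gcongr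
    _ = _ := by ring

end Semi

end Cfsg.Agent.H7.Wf.UCount
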